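import Groth.Agent.NormFinCpl.Core
import Groth.Prelude.Def_Curv2
import Groth.Agent.Props.N2Local
import Groth.Agent.S0568
import Groth.Agent.S0566
import Groth.Agent.RegLoc.Completion
import Groth.Agent.Nagata.FiniteType
import Mathlib.RingTheory.AdicCompletion.AsTensorProduct
import Mathlib.RingTheory.Flat.FaithfullyFlat.Algebra
import Mathlib.AlgebraicGeometry.Normalization
import Mathlib.AlgebraicGeometry.Pullbacks

/-!
# Finiteness of the normalization of a scheme over a Noetherian local ring via the completion
-/

set_option autoImplicit false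
set_option linter.style.haveILetI false
set_option backward.isDefEq.respectTransparency false
set_option backward.isDefEq.respectTransparency.types false

universe u

open CategoryTheory CategoryTheory.Limits AlgebraicGeometry TopologicalSpace TensorProduct Opposite

noncomputable section

namespace Groth.Agent.NormFinCpl

/-- The structure map of an affine open of a scheme over `Spec A`. -/
def strHom {A : Type u} [CommRing A] {X : Scheme.{u}} (f : X ⟶ Spec (CommRingCat.of A)) {U : X.Opens}
    (hU : IsAffineOpen U) : A →+* Γ(X, U) :=
  (Spec.preimage (hU.fromSpec ≫ f)).hom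

theorem map_strHom {A : Type u} [CommRing A] {X : Scheme.{u}} (f : X ⟶ Spec (CommRingCat.of A)) {U : X.Opens}
    (hU : IsAffineOpen U) : Spec.map (CommRingCat.ofHom (strHom f hU)) = hU.fromSpec ≫ f :=
  Spec.map_preimage _

theorem finiteType_strHom {A : Type u} [CommRing A] {X : Scheme.{u}} (f : X ⟶ Spec (CommRingCat.of A))
    [LocallyOfFiniteType f] {U : X.Opens} (hU : IsAffineOpen U) : (strHom f hU).FiniteType :=
  (HasRingHomProperty.Spec_iff (P := @LocallyOfFiniteType) (φ := CommRingCat.ofHom (strHom f hU))).1
    (by rw [map_strHom]; infer_instance)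

/-- The normalization is finite once integral closures over affine opens are finite. -/
theorem isFinite_normalizationι (X : Scheme.{u}) [IsIntegral X]
    [QuasiCompact (X.fromSpecStalk (genericPoint X))] [QuasiSeparated (X.fromSpecStalk (genericPoint X))]
    (h : ∀ (U : X.Opens), IsAffineOpen U → ∀ [Nonempty U],
      Module.Finite Γ(X, U) (integralClosure Γ(X, U) X.functionField)) :
    IsFinite (Curv2.normalizationι X) := by
  unfold Curv2.normalizationι
  have : IsIntegralHom (X.fromSpecStalk (genericPoint X)).fromNormalization := inferInstance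
  refine { toIsAffineHom := this.toIsAffineHom, finite_app := fun U hU => ?_ }
  let f := X.fromSpecStalk (genericPoint X)
  change (f.fromNormalization.app U).hom.Finite
  rw [Scheme.Hom.fromNormalization_app _ hU]
  erw [CommRingCat.hom_comp]
  refine RingHom.Finite.comp (RingHom.Finite.of_surjective _
    (ConcreteCategory.bijective_of_isIso (f.normalizationObjIso hU).inv).2) ?_
  let algU := (f.app U).hom.toAlgebra
  change (algebraMap Γ(X, U) (integralClosure Γ(X, U) Γ(Spec (X.presheaf.stalk (genericPoint X)), f ⁻¹ᵁ U))).Finite
  rw [RingHom.finite_algebraMap]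
  rcases U.1.eq_empty_or_nonempty with hne | ⟨x, hx⟩
  · obtain rfl : U = ⊥ := TopologicalSpace.Opens.ext hne
    have : Subsingleton (integralClosure Γ(X, ⊥) Γ(Spec (X.presheaf.stalk (genericPoint X)), f ⁻¹ᵁ ⊥)) :=
      Module.subsingleton Γ(X, ⊥) _
    infer_instance
  · have hne : Nonempty U := ⟨⟨x, hx⟩⟩
    have hgen : genericPoint X ∈ U := (genericPoint_specializes x).mem_open U.2 hx
    have htop : f ⁻¹ᵁ U = ⊤ := by
      refine top_le_iff.mp fun z _ => ?_
      have hz : f z ⤳ genericPoint X := X.range_fromSpecStalk.le ⟨z, rfl⟩
      exact hz.mem_open U.2 hgen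
    let ei := (Spec X.functionField).presheaf.mapIso (eqToIso htop.symm).op ≪≫
      Scheme.ΓSpecIso X.functionField
    have hei : f.app U ≫ ei.hom = X.presheaf.germ U (genericPoint X) hgen := by
      rw [Scheme.fromSpecStalk_app hgen]
      simp only [ei, Category.assoc, Iso.trans_hom, Functor.mapIso_hom]
      erw [← Functor.map_comp_assoc]
      simp
    let e : Γ(Spec X.functionField, f ⁻¹ᵁ U) ≃ₐ[Γ(X, U)] X.functionField :=
      AlgEquiv.ofRingEquiv (f := ei.commRingCatIsoToRingEquiv) fun r => congr($(hei).hom r)
    have := h U hU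
    exact Module.Finite.equiv e.mapIntegralClosure.symm.toLinearEquiv

/-- The completion of a Noetherian local ring is Nagata. -/
theorem isNagata_cpl (A : Type u) [CommRing A] [IsLocalRing A] [IsNoetherianRing A] :
    CAlg.IsNagata (Curv2.cpl A) := by
  have hm := Ideal.fg_of_isNoetherianRing (IsLocalRing.maximalIdeal A)
  haveI : IsNoetherianRing (Curv2.cpl A) :=
    Groth.Agent.RegLoc.Completion.isNoetherianRing_adicCompletion' (IsLocalRing.maximalIdeal A)
  haveI : IsAdicComplete (IsLocalRing.maximalIdeal (Curv2.cpl A)) (Curv2.cpl A) := inferInstance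
  exact Groth.Agent.S0568.result (Curv2.cpl A)

/-- A finite type domain over a Noetherian local ring whose base change to the completion is reduced
has finite normalization. -/
theorem finite_of_isReduced (A : Type u) [CommRing A] [IsLocalRing A] [IsNoetherianRing A]
    (B : Type u) [CommRing B] [IsDomain B] [Algebra A B] [Algebra.FiniteType A B]
    [IsReduced (B ⊗[A] Curv2.cpl A)] (K : Type u) [Field K] [Algebra B K] [IsFractionRing B K] :
    Module.Finite B (integralClosure B K) := by
  haveI : Module.Flat A (Curv2.cpl A) := AdicCompletion.flat_of_isNoetherian _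
  haveI : Module.FaithfullyFlat A (Curv2.cpl A) := Module.FaithfullyFlat.of_flat_of_isLocalHom
  haveI : Module.FaithfullyFlat B (B ⊗[A] Curv2.cpl A) := inferInstance
  refine finite_integralClosure B (B ⊗[A] Curv2.cpl A) ?_ K
  exact Groth.Agent.Nagata.FiniteType.isNagata_of_surjective
    (Algebra.TensorProduct.comm A (Curv2.cpl A) B).toRingEquiv.toRingHom (fun x => (Algebra.TensorProduct.comm A (Curv2.cpl A) B).surjective x)
    (Groth.Agent.S0566.result _ (isNagata_cpl A) (Curv2.cpl A ⊗[A] B))

end Groth.Agent.NormFinCpl
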