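import Groth.Prelude.Def_Found
import Groth.Agent.RedNorm.Nagata
import Mathlib.RingTheory.Finiteness.Descent
import Mathlib.RingTheory.Flat.Basic

/-!
# Finiteness of the normalization from a faithfully flat Nagata reduced extension
-/

set_option autoImplicit false
set_option linter.style.haveILetI false

universe u

open TensorProduct

namespace Groth.Agent.NormFinCpl

/-- A domain with a faithfully flat reduced Nagata algebra has finite normalization. -/
theorem finite_integralClosure (B : Type u) [CommRing B] [IsDomain B] (C : Type u) [CommRing C] [Algebra B C]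
    [Module.FaithfullyFlat B C] [IsReduced C] (hC : CAlg.IsNagata C)
    (K : Type u) [Field K] [Algebra B K] [IsFractionRing B K] :
    Module.Finite B (integralClosure B K) := by
  haveI := hC.1
  let L := FractionRing C
  have hnz : ∀ b : B, b ≠ 0 → algebraMap B C b ∈ nonZeroDivisors C := fun b hb => by
    rw [mem_nonZeroDivisors_iff_right]
    intro c hc
    have hinj : Function.Injective (LinearMap.lTensor C (LinearMap.mulLeft B b)) :=
      Module.Flat.lTensor_preserves_injective_linearMap (M := C) _ fun x y h => mul_left_cancel₀ hb h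
    have h0 : LinearMap.lTensor C (LinearMap.mulLeft B b) (c ⊗ₜ 1) = LinearMap.lTensor C (LinearMap.mulLeft B b) 0 := by
      apply (TensorProduct.rid B C).injective
      simp [Algebra.smul_def, mul_comm _ c, hc]
    simpa using congrArg (TensorProduct.rid B C) (hinj h0)
  have hu : ∀ y : nonZeroDivisors B, IsUnit (algebraMap B L y) := fun y => by
    rw [IsScalarTower.algebraMap_apply B C L]
    exact IsLocalization.map_units L ⟨_, hnz _ (nonZeroDivisors.ne_zero y.2)⟩
  let ψ : K →ₐ[B] L := IsLocalization.liftAlgHom (M := nonZeroDivisors B) (f := Algebra.ofId B L) hu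
  let φ : C ⊗[B] K →ₐ[C] L := Algebra.TensorProduct.lift (Algebra.ofId C L) ψ (fun _ _ => Commute.all _ _)
  have hrep : ∀ z : C ⊗[B] K, ∃ (c : C) (s : nonZeroDivisors B), z * (1 ⊗ₜ algebraMap B K s) = c ⊗ₜ 1 := by
    intro z
    induction z using TensorProduct.induction_on with
    | zero => exact ⟨0, 1, by simp⟩
    | tmul c x =>
        obtain ⟨⟨a, s⟩, has⟩ := IsLocalization.surj (nonZeroDivisors B) x
        refine ⟨a • c, s, ?_⟩
        rw [Algebra.TensorProduct.tmul_mul_tmul, mul_one, has, Algebra.algebraMap_eq_smul_one,
          TensorProduct.tmul_smul, TensorProduct.smul_tmul']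
    | add x y hx hy =>
        obtain ⟨c, s, hc⟩ := hx
        obtain ⟨d, t, hd⟩ := hy
        refine ⟨(t : B) • c + (s : B) • d, s * t, ?_⟩
        rw [Submonoid.coe_mul, map_mul, TensorProduct.add_tmul, ← TensorProduct.smul_tmul', ← TensorProduct.smul_tmul',
          ← hc, ← hd, add_mul]
        congr 1 <;>
        · rw [← mul_smul_comm, ← TensorProduct.tmul_smul]
          simp [Algebra.smul_def, mul_comm]
  have hφ : Function.Injective φ := (injective_iff_map_eq_zero _).2 fun z hz => by
    obtain ⟨c, s, hc⟩ := hrep z
    have h1 := congrArg φ hc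
    rw [map_mul, hz, zero_mul] at h1
    have hc0 : c = 0 := IsFractionRing.injective C L (by
      rw [map_zero, h1]; simp [φ])
    rw [hc0, TensorProduct.zero_tmul] at hc
    have hsu : IsUnit ((1 : C) ⊗ₜ[B] algebraMap B K s) :=
      (IsLocalization.map_units K s).map (Algebra.TensorProduct.includeRight : K →ₐ[B] C ⊗[B] K)
    exact hsu.mul_left_eq_zero.1 hc
  let B' := integralClosure B K
  let θ : C ⊗[B] B' →ₐ[C] L := φ.comp (Algebra.TensorProduct.map (AlgHom.id C C) B'.val)
  have hθ : Function.Injective θ := hφ.comp
    (Module.Flat.lTensor_preserves_injective_linearMap (M := C) B'.val.toLinearMap Subtype.val_injective)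
  have hmem : ∀ z, θ z ∈ integralClosure C L := fun z => by
    induction z using TensorProduct.induction_on with
    | zero => rw [map_zero]; exact zero_mem _
    | tmul c x =>
        have : θ (c ⊗ₜ x) = algebraMap C L c * ψ x := by simp [θ, φ]
        rw [this]
        exact mul_mem (Subalgebra.algebraMap_mem _ c) ((x.2.map ψ).tower_top)
    | add x y hx hy => rw [map_add]; exact add_mem hx hy
  haveI := Groth.Agent.RedNorm.finite_integralClosure_of_isNagata C hC
  haveI : Module.Finite C (C ⊗[B] B') :=
    Module.Finite.of_injective (θ.codRestrict _ hmem).toLinearMap fun a b h => hθ (congrArg Subtype.val h)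
  exact Module.Finite.of_finite_tensorProduct_of_faithfullyFlat C

end Groth.Agent.NormFinCpl
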